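set_option autoImplicit false
namespace Cfsg.Agent.Lib.Helper6.TCD.G24X
noncomputable def QX (i : Nat) : Nat := Nat.land (Nat.shiftRight 0xc92233d0a5967e48b398e66a73fac4972972a944a4d2b6ce5f38ffb151299637ead9f51f94d6585457a4e4f6f3a0c8e966542c87356c9b65685684abb6513aa69fee6905ec269d8437ab58d868abb9a4e8b5b98e7644c57d971dcda6dd29fcc45d498f61dfee93c4d61582b486ca93d3b85d872778cb28892dcb04815140a4cccc18e3f37aeacc3543a19226d1725983992ee0151b69c91b76c0b166aa3be1d4d70f6b3b18137ad35e9eef4133caae238ae13334978f542ba195b9e5117067560f0c6c52f64e7b9086e8c75598b170b5628c8f9110e54ea681be2b713b8bd8bef56eb62ba4c8dc6723162941d290282c9d257a4b0591f7d3b22ef2b9a51219ad3c8559569c655f8961ec3d1b182db7c61a051823f0ae81c5941c94810cc202f11984a86196457848beabda4dcac2cce04d479ee023862aa246b81ac4d5588bf552804b2eb3b84e8d1084216a5dbbd95cb1ea80f178d403badfc846ac427d82739b50c7d3e2a5c63e2d31c8adb0f9e01697649c0d0fb6f89c7079474195ca5250ac626c14abd621b4483c6a5ec4228743b18468c60c161e8cc93298285008269a40a771b0bc221c67184281396808b6542b0748e87100a8300e5b80d3a83278548c67049007e80220108641068d02e06170004601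 (Nat.mul 9 (Nat.land i 511))) 511
end Cfsg.Agent.Lib.Helper6.TCD.G24X
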